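import Cfsg.Agent.Lib.Spor.Cos.ON.J1.ActBData

/-! Data and checks for a subgroup. -/

set_option autoImplicit false
set_option maxRecDepth 100000
set_option maxHeartbeats 4000000

namespace Cfsg.Agent.Spor.Cos.ON.J1

theorem actB_inv0 : allBlock (actB.chkInv) 1045 256 0 = true := by decide +kernel

theorem actB_inv1 : allBlock (actB.chkInv) 1045 256 1 = true := by decide +kernel

theorem actB_inv2 : allBlock (actB.chkInv) 1045 256 2 = true := by decide +kernel

theorem actB_inv3 : allBlock (actB.chkInv) 1045 256 3 = true := by decide +kernel

theorem actB_inv4 : allBlock (actB.chkInv) 1045 256 4 = true := by decide +kernel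

theorem actB_inv : ∀ i < 1045, (actB.chkInv) i = true :=
  of_blocks (size := 256) (b := 5) (by decide) (by decide) fun j hj => by
    interval_cases j
    · exact actB_inv0
    · exact actB_inv1
    · exact actB_inv2
    · exact actB_inv3
    · exact actB_inv4

end Cfsg.Agent.Spor.Cos.ON.J1
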