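import Cfsg.Agent.Lib.Spor.Cos.Act

/-! Data and checks for a subgroup. -/

set_option autoImplicit false
set_option maxRecDepth 100000
set_option maxHeartbeats 4000000

namespace Cfsg.Agent.Spor.Cos.ON.J1

/-- The relations. -/
def words : List (List ℕ) := [[0, 1, 0, 1, 0, 1, 0, 1, 0, 1, 0, 1, 0, 1, 0, 1, 0, 1, 0, 1, 0, 1, 0, 1, 0, 1, 0, 1, 0, 1, 0, 1, 0, 1, 0, 1, 0, 1], [0, 1, 2, 0, 2, 0, 2, 1, 0, 1, 0, 1, 2, 0, 2, 0, 2, 1, 0, 1], [2, 1, 0, 2, 1, 0, 2, 1, 0, 2, 1, 0, 2, 1, 0, 2, 1, 0, 2, 1, 0], [2, 0, 1, 2, 1, 2, 1, 0, 1, 0, 2, 1, 0, 1, 2, 1, 2, 1, 0, 1, 0, 1, 0], [1, 2, 1, 2, 0, 2, 0, 1, 2, 1, 0, 2, 0, 2, 1, 0, 2, 0, 2, 1, 0,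 1, 0], [2, 0, 1, 0, 2, 0, 1, 2, 0, 2, 1, 2, 1, 2, 1, 2, 0, 1, 2, 1, 0, 1, 0], [2, 0, 1, 0, 1, 2, 0, 2, 1, 0, 2, 1, 2, 1, 0, 1, 0, 1, 2, 1, 0, 1, 0, 1, 0], [0, 2, 0, 2, 1, 0, 1, 0, 1, 2, 1, 0, 1, 2, 1, 0, 1, 0, 1, 2, 0, 2, 0, 1, 0, 1]]

/-- The generators as words of the large group. -/
def gens : List (List ℕ) := [[6, 4, 6, 0, 2, 1, 2, 6, 3, 0, 3, 6, 3, 4, 3, 2, 1, 2, 1, 2, 6, 3, 0, 3, 6, 3, 4, 3, 2, 1, 2, 1, 2, 6, 3, 0, 3, 6, 3, 4, 3, 2, 1, 2, 1, 2, 6, 3, 0, 3, 6, 3, 4, 3, 2, 1, 0, 6, 4, 6, 4, 0, 2, 1, 5, 0, 6, 1, 4, 2, 1, 5, 0, 6, 1, 4, 2, 1, 5, 0, 6, 1, 4, 2, 1, 5, 0, 6, 1, 4, 2, 1, 5, 0, 6, 1, 4, 2, 1, 5, 0, 6, 1, 4, 0, 4,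 6, 4, 6, 0, 2, 1, 2, 6, 3, 0, 3, 6, 3, 4, 3, 2, 1, 2, 1, 2, 6, 3, 0, 3, 6, 3, 4, 3, 2, 1, 0, 6, 4, 6, 4, 0, 2, 1, 5, 0, 6, 1, 4, 2, 1, 5, 0, 6, 1, 4, 2, 1, 5, 0, 6, 1, 4, 2, 1, 5, 0, 6, 1, 4, 2, 1, 5, 0, 6, 1, 4, 2, 1, 5, 0, 6, 1, 4, 0, 4, 6, 4, 6, 0, 1, 2, 3, 4, 3, 6, 3, 0, 3, 6, 2, 1, 2, 1, 2, 3, 4, 3, 6, 3, 0, 3, 6, 2, 1, 2, 0, 6, 4, 6, 4, 0, 2, 1, 5, 0, 6, 1, 4, 2, 1, 5, 0, 6, 1, 4, 2, 1, 5, 0, 6, 1, 4, 2, 1, 5, 0, 6, 1, 4, 2, 1, 5, 0, 6, 1, 4, 2, 1, 5, 0, 6, 1, 4, 0, 4, 6, 4, 6, 0, 2, 1, 2, 6, 3, 0, 3, 6, 3, 4, 3, 2, 1, 2, 1, 2, 6, 3, 0, 3, 6, 3, 4, 3, 2, 1, 0, 6, 4, 6], [6, 4, 6, 0, 2, 1, 2, 6, 3, 0, 3, 6, 3, 4, 3, 2, 1,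 2, 1, 2, 6, 3, 0, 3, 6, 3, 4, 3, 2, 1, 2, 1, 2, 6, 3, 0, 3, 6, 3, 4, 3, 2, 1, 2, 1, 2, 6, 3, 0, 3, 6, 3, 4, 3, 2, 1, 0, 6, 4, 6, 4, 0, 2, 1, 5, 0, 6, 1, 4, 2, 1, 5, 0, 6, 1, 4, 2, 1, 5, 0, 6, 1, 4, 2, 1, 5, 0, 6, 1, 4, 2, 1, 5, 0, 6, 1, 4, 2, 1, 5, 0, 6, 1, 4, 0, 4, 6, 4, 6, 0, 1, 2, 3, 4, 3, 6, 3, 0, 3, 6, 2, 1, 2, 1, 2, 3, 4, 3, 6, 3, 0, 3, 6, 2, 1, 2, 0, 6, 4, 6, 4, 0, 2, 1, 5, 0, 6, 1, 4, 2, 1, 5, 0, 6, 1, 4, 2, 1, 5, 0, 6, 1, 4, 2, 1, 5, 0, 6, 1, 4, 2, 1, 5, 0, 6, 1, 4, 2, 1, 5, 0, 6, 1, 4, 0, 4, 6, 4, 6, 0, 2, 1, 2, 6, 3, 0, 3, 6, 3, 4, 3, 2, 1, 2, 1, 2, 6, 3, 0, 3, 6, 3, 4, 3, 2, 1, 0, 6, 4, 6, 4, 0, 2, 1, 5, 0, 6, 1, 4,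 2, 1, 5, 0, 6, 1, 4, 2, 1, 5, 0, 6, 1, 4, 2, 1, 5, 0, 6, 1, 4, 2, 1, 5, 0, 6, 1, 4, 2, 1, 5, 0, 6, 1, 4, 0, 4, 6, 4, 6, 0, 2, 1, 2, 6, 3, 0, 3, 6, 3, 4, 3, 2, 1, 2, 1, 2, 6, 3, 0, 3, 6, 3, 4, 3, 2, 1, 0, 6, 4, 6], [6, 4, 6, 0, 2, 1, 2, 6, 3, 0, 3, 6, 3, 4, 3, 2, 1, 2, 1, 2, 6, 3, 0, 3, 6, 3, 4, 3, 2, 1, 0, 6, 4, 6, 4, 0, 2, 1, 5, 0, 6, 1, 4, 2, 1, 5, 0, 6, 1, 4, 2, 1, 5, 0, 6, 1, 4, 2, 1, 5, 0, 6, 1, 4, 2, 1, 5, 0, 6, 1, 4, 2, 1, 5, 0, 6, 1, 4, 0, 4, 6, 4, 6, 0, 1, 2, 3, 4, 3, 6, 3, 0, 3, 6, 2, 1, 2, 1, 2, 3, 4, 3, 6, 3, 0, 3, 6, 2, 1, 2, 0, 6, 4, 6, 4, 0, 2, 1, 5, 0, 6, 1, 4, 2, 1, 5, 0, 6, 1, 4, 2, 1, 5, 0, 6, 1, 4, 2, 1, 5,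 0, 6, 1, 4, 2, 1, 5, 0, 6, 1, 4, 2, 1, 5, 0, 6, 1, 4, 0, 4, 6, 4, 6, 0, 1, 2, 3, 4, 3, 6, 3, 0, 3, 6, 2, 1, 2, 1, 2, 3, 4, 3, 6, 3, 0, 3, 6, 2, 1, 2, 1, 2, 3, 4, 3, 6, 3, 0, 3, 6, 2, 1, 2, 1, 2, 3, 4, 3, 6, 3, 0, 3, 6, 2, 1, 2, 0, 6, 4, 6, 4, 0, 2, 1, 5, 0, 6, 1, 4, 2, 1, 5, 0, 6, 1, 4, 2, 1, 5, 0, 6, 1, 4, 2, 1, 5, 0, 6, 1, 4, 2, 1, 5, 0, 6, 1, 4, 2, 1, 5, 0, 6, 1, 4, 0, 4, 6, 4, 6, 0, 1, 2, 3, 4, 3, 6, 3, 0, 3, 6, 2, 1, 2, 1, 2, 3, 4, 3, 6, 3, 0, 3, 6, 2, 1, 2, 0, 6, 4, 6]]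

end Cfsg.Agent.Spor.Cos.ON.J1
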