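import Cfsg.Agent.Lib.Spor.Cos.ON.J1.ActBData
import Cfsg.Agent.Lib.Spor.Cos.ON.J1.Words

/-! Data and checks for a subgroup. -/

set_option autoImplicit false
set_option maxRecDepth 100000
set_option maxHeartbeats 4000000

namespace Cfsg.Agent.Spor.Cos.ON.J1

theorem actB_rels0 : allBlock (actB.chkFix words) 1045 64 0 = true := by decide +kernel

theorem actB_rels1 : allBlock (actB.chkFix words) 1045 64 1 = true := by decide +kernel

theorem actB_rels2 : allBlock (actB.chkFix words) 1045 64 2 = true := by decide +kernel

theorem actB_rels3 : allBlock (actB.chkFix words) 1045 64 3 = true := by decide +kernel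

theorem actB_rels4 : allBlock (actB.chkFix words) 1045 64 4 = true := by decide +kernel

theorem actB_rels5 : allBlock (actB.chkFix words) 1045 64 5 = true := by decide +kernel

theorem actB_rels6 : allBlock (actB.chkFix words) 1045 64 6 = true := by decide +kernel

theorem actB_rels7 : allBlock (actB.chkFix words) 1045 64 7 = true := by decide +kernel

theorem actB_rels8 : allBlock (actB.chkFix words) 1045 64 8 = true := by decide +kernel

theorem actB_rels9 : allBlock (actB.chkFix words) 1045 64 9 = true := by decide +kernel

theorem actB_rels10 : allBlock (actB.chkFix words) 1045 64 10 = true := by decide +kernel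

theorem actB_rels11 : allBlock (actB.chkFix words) 1045 64 11 = true := by decide +kernel

theorem actB_rels12 : allBlock (actB.chkFix words) 1045 64 12 = true := by decide +kernel

theorem actB_rels13 : allBlock (actB.chkFix words) 1045 64 13 = true := by decide +kernel

theorem actB_rels14 : allBlock (actB.chkFix words) 1045 64 14 = true := by decide +kernel

theorem actB_rels15 : allBlock (actB.chkFix words) 1045 64 15 = true := by decide +kernel

theorem actB_rels16 : allBlock (actB.chkFix words) 1045 64 16 = true := by decide +kernel

theorem actB_rels : ∀ i < 1045, (actB.chkFix words) i = true :=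
  of_blocks (size := 64) (b := 17) (by decide) (by decide) fun j hj => by
    interval_cases j
    · exact actB_rels0
    · exact actB_rels1
    · exact actB_rels2
    · exact actB_rels3
    · exact actB_rels4
    · exact actB_rels5
    · exact actB_rels6
    · exact actB_rels7
    · exact actB_rels8
    · exact actB_rels9
    · exact actB_rels10
    · exact actB_rels11
    · exact actB_rels12
    · exact actB_rels13
    · exact actB_rels14
    · exact actB_rels15
    · exact actB_rels16

end Cfsg.Agent.Spor.Cos.ON.J1
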