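import Cfsg.Agent.Lib.Spor.Cos.ON.J1.LowData

/-! Checks of the facts of a coset enumeration. -/

set_option autoImplicit false
set_option maxRecDepth 100000
set_option maxHeartbeats 4000000

namespace Cfsg.Agent.Spor.Cos.ON.J1

theorem low_part0 : low.chkPart 37 38 [(1, 0x8c000420001f0000e80006c00032000170000a80004c000220000f0000680002c00012000070000280000c0000200000800014000120000d00008800054000320001d00010800094000520002d000188000d4000720003d000208001140009200128001289400)] = true := by decide +kernel

end Cfsg.Agent.Spor.Cos.ON.J1
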